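import Mathlib
import Cfsg.Agent.BlockCharsA.TwoChars.Algebra

/-!
# A local corner of a symmetric algebra with at most four traces
-/

set_option linter.style.haveILetI false
set_option linter.unusedSectionVars false

namespace Cfsg.Agent.BlockCharsA.RankOneSmall

open Module Cfsg.Agent.BlockCharsA.TwoChars

universe u v w

variable {F : Type u} [Field F] {𝒜 : Type v} [Ring 𝒜] [Algebra F 𝒜] {W : Type w}
  [AddCommGroup W] [Module F W]

/-- A local symmetric algebra `A` with at most four traces is commutative. -/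
theorem commute_of_finrank_le [FiniteDimensional F 𝒜] (Φ : 𝒜 →ₗ[F] W) {E : 𝒜}
    (hEE : E * E = E) {A N : Submodule F 𝒜} (hA : ∀ x, x ∈ A ↔ E * x = x ∧ x * E = x)
    (hNA : N ≤ A) (hNN : N * N ≤ N) {L : ℕ} (hNL : N ^ (L + 1) = ⊥)
    (hE : ∀ c : F, c • E ∈ N → c = 0) (hres : ∀ x ∈ A, ∃ c : F, x - c • E ∈ N)
    {CA : Submodule F 𝒜}
    (hCA : CA = Submodule.span F (Set.range fun q : A × A => (q.1 : 𝒜) * q.2 - q.2 * q.1))
    (hker : ∀ x ∈ A, Φ x = 0 → x ∈ CA) (hr : finrank F (A.map Φ) ≤ 4)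
    (lam : 𝒜 →ₗ[F] F) (hlam : ∀ x ∈ CA, lam x = 0)
    (hnd : ∀ x ∈ A, (∀ y ∈ A, lam (x * y) = 0) → x = 0) :
    ∀ x ∈ A, ∀ y ∈ A, Commute x y := by
  classical
  have hEA : E ∈ A := (hA E).2 ⟨hEE, hEE⟩
  have hEN : ∀ x ∈ N, E * x = x ∧ x * E = x := fun x hx => (hA x).1 (hNA hx)
  set K := N * N with hK
  have hKN : K ≤ N := hNN
  set T := K * N with hT
  have hTK : T ≤ K := Submodule.mul_le.2 fun a ha b hb => Submodule.mul_mem_mul (hKN ha) hb
  -- commutators
  have hcomm_eq : ∀ x ∈ A, ∀ y ∈ A, ∃ u ∈ N, ∃ w ∈ N, x * y - y * x = u * w - w * u := by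
    intro x hx y hy
    obtain ⟨c, hc⟩ := hres x hx
    obtain ⟨d, hd⟩ := hres y hy
    obtain ⟨hx1, hx2⟩ := (hA x).1 hx
    obtain ⟨hy1, hy2⟩ := (hA y).1 hy
    refine ⟨_, hc, _, hd, ?_⟩
    simp only [sub_mul, mul_sub, smul_mul_assoc, mul_smul_comm, hEE, hx1, hx2, hy1, hy2,
      smul_sub, smul_smul]
    module
  have hCAK : CA ≤ K := by
    rw [hCA]
    refine Submodule.span_le.2 ?_
    rintro _ ⟨⟨x, y⟩, rfl⟩
    obtain ⟨u, hu, w, hw, h⟩ := hcomm_eq x x.2 y y.2
    show (x : 𝒜) * y - y * x ∈ K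
    rw [h]
    exact Submodule.sub_mem _ (Submodule.mul_mem_mul hu hw) (Submodule.mul_mem_mul hw hu)
  have hsub : ∀ x ∈ A, ∀ y ∈ A, x * y - y * x ∈ CA := fun x hx y hy => by
    rw [hCA]; exact Submodule.subset_span ⟨(⟨x, hx⟩, ⟨y, hy⟩), rfl⟩
  have hmulA : ∀ x ∈ A, ∀ y ∈ A, x * y ∈ A := fun x hx y hy => (hA _).2
    ⟨by rw [← mul_assoc, ((hA x).1 hx).1], by rw [mul_assoc, ((hA y).1 hy).2]⟩
  have hcase : T = ⊥ → ∀ x ∈ A, ∀ y ∈ A, Commute x y := by
    intro h0 x hx y hy
    refine sub_eq_zero.1 (hnd _ (A.sub_mem (hmulA x hx y hy) (hmulA y hy x hx)) fun z hz => ?_)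
    obtain ⟨c, hc⟩ := hres z hz
    have hmem : x * y - y * x ∈ CA := hsub x hx y hy
    have hzero : (x * y - y * x) * (z - c • E) = 0 := by
      have h1 : (x * y - y * x) * (z - c • E) ∈ T := Submodule.mul_mem_mul (hCAK hmem) hc
      rwa [h0, Submodule.mem_bot] at h1
    rw [mul_sub, mul_smul_comm, sub_eq_zero] at hzero
    rw [hzero, sub_mul, mul_assoc, mul_assoc, ((hA y).1 hy).2, ((hA x).1 hx).2, map_smul,
      hlam _ hmem, smul_zero]
  by_cases hone : ∃ u ∈ N, N ≤ (F ∙ u) ⊔ K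
  · obtain ⟨u, huN, hu⟩ := hone
    exact commute_of_gen hres hNN hNL huN hu ((hEN u huN).1.trans (hEN u huN).2.symm)
  push Not at hone
  refine hcase ?_
  obtain ⟨a₁, ha₁, ha₁K⟩ := SetLike.not_le_iff_exists.1 (hone 0 N.zero_mem)
  have ha₁K' : a₁ ∉ K := fun h => ha₁K (Submodule.mem_sup_right h)
  obtain ⟨a₂, ha₂, ha₂K⟩ := SetLike.not_le_iff_exists.1 (hone a₁ ha₁)
  have hind : ∀ a b : F, a • a₁ + b • a₂ ∈ K → a = 0 ∧ b = 0 := by
    intro a b h
    have hb : b = 0 := by
      by_contra hb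
      refine ha₂K (Submodule.mem_sup.2 ⟨-(b⁻¹ * a) • a₁,
        Submodule.smul_mem _ _ (Submodule.mem_span_singleton_self _), b⁻¹ • (a • a₁ + b • a₂),
        K.smul_mem _ h, ?_⟩)
      rw [smul_add, smul_smul, smul_smul, inv_mul_cancel₀ hb, one_smul, neg_smul]
      abel
    refine ⟨by_contra fun ha => ha₁K' ?_, hb⟩
    rw [hb, zero_smul, add_zero] at h
    have := K.smul_mem a⁻¹ h
    rwa [smul_smul, inv_mul_cancel₀ ha, one_smul] at this
  by_cases hTC : T ≤ CA
  · refine (Submodule.eq_bot_iff _).2 fun x hx => hnd x (hNA (hKN (hTK hx))) fun y hy => ?_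
    obtain ⟨c, hc⟩ := hres y hy
    have hxK : x ∈ K := hTK hx
    have h1 : x * (y - c • E) ∈ T := Submodule.mul_mem_mul hxK hc
    have h2 := hlam _ (hTC h1)
    rw [mul_sub, mul_smul_comm, (hEN x (hKN hxK)).2, map_sub, map_smul, hlam _ (hTC hx),
      smul_zero, sub_zero] at h2
    exact h2
  obtain ⟨q, hqT, hqC⟩ := SetLike.not_le_iff_exists.1 hTC
  -- the four classes
  have hqA : q ∈ A := hNA (hKN (hTK hqT))
  have hli : LinearIndependent F ![Φ E, Φ a₁, Φ a₂, Φ q] := by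
    rw [Fintype.linearIndependent_iff]
    intro g hg
    simp only [Fin.sum_univ_four, Matrix.cons_val_zero, Matrix.cons_val_one,
      Matrix.cons_val] at hg
    rw [← map_smul, ← map_smul, ← map_smul, ← map_smul, ← map_add, ← map_add, ← map_add] at hg
    have hm := hker _ (A.add_mem (A.add_mem (A.add_mem (A.smul_mem _ hEA) (A.smul_mem _ (hNA ha₁)))
      (A.smul_mem _ (hNA ha₂))) (A.smul_mem _ hqA)) hg
    have h0 : g 0 = 0 := hE _ (by
      have := N.sub_mem (N.sub_mem (N.sub_mem (hKN (hCAK hm)) (N.smul_mem (g 3) (hKN (hTK hqT))))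
        (N.smul_mem (g 2) ha₂)) (N.smul_mem (g 1) ha₁)
      convert this using 1
      abel)
    obtain ⟨h1, h2⟩ := hind (g 1) (g 2) (by
      have := K.sub_mem (hCAK hm) (K.smul_mem (g 3) (hTK hqT))
      rw [h0, zero_smul, zero_add, add_sub_cancel_right] at this
      exact this)
    have h3 : g 3 = 0 := by
      by_contra h3
      rw [h0, h1, h2, zero_smul, zero_smul, zero_smul, zero_add, zero_add, zero_add] at hm
      refine hqC ?_
      have := CA.smul_mem (g 3)⁻¹ hm
      rwa [smul_smul, inv_mul_cancel₀ h3, one_smul] at this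
    intro i
    fin_cases i <;> assumption
  have hspan : ∀ x ∈ A, ∃ g : Fin 4 → F, x - (g 0 • E + g 1 • a₁ + g 2 • a₂ + g 3 • q) ∈ CA := by
    intro x hx
    set S := Submodule.span F (Set.range ![Φ E, Φ a₁, Φ a₂, Φ q])
    have hle : S ≤ A.map Φ := by
      refine Submodule.span_le.2 ?_
      rintro _ ⟨i, rfl⟩
      fin_cases i
      · exact Submodule.mem_map_of_mem hEA
      · exact Submodule.mem_map_of_mem (hNA ha₁)
      · exact Submodule.mem_map_of_mem (hNA ha₂)
      · exact Submodule.mem_map_of_mem hqA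
    have heq : S = A.map Φ := Submodule.eq_of_le_of_finrank_le hle (by
      rw [finrank_span_eq_card hli, Fintype.card_fin]; exact hr)
    have hmem : Φ x ∈ S := heq ▸ Submodule.mem_map_of_mem hx
    rw [Submodule.mem_span_range_iff_exists_fun] at hmem
    obtain ⟨g, hg⟩ := hmem
    refine ⟨g, hker _ (A.sub_mem hx (A.add_mem (A.add_mem (A.add_mem (A.smul_mem _ hEA)
      (A.smul_mem _ (hNA ha₁))) (A.smul_mem _ (hNA ha₂))) (A.smul_mem _ hqA))) ?_⟩
    rw [map_sub, ← hg, Fin.sum_univ_four]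
    simp
  have hN2 : ∀ x ∈ N, ∃ a b : F, x - (a • a₁ + b • a₂) ∈ K := by
    intro x hx
    obtain ⟨g, hg⟩ := hspan x (hNA hx)
    have hK1 := hCAK hg
    have h0 : g 0 = 0 := hE _ (by
      have := N.sub_mem (N.sub_mem (N.sub_mem (N.sub_mem hx (hKN hK1))
        (N.smul_mem (g 3) (hKN (hTK hqT)))) (N.smul_mem (g 2) ha₂)) (N.smul_mem (g 1) ha₁)
      convert this using 1
      abel)
    refine ⟨g 1, g 2, ?_⟩
    have := K.add_mem hK1 (K.smul_mem (g 3) (hTK hqT))
    convert this using 1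
    rw [h0, zero_smul]
    abel
  have hNK : ∀ u ∈ N, ∀ k ∈ K, u * k ∈ T := fun u hu k hk => by
    rw [hT, hK, mul_assoc]
    exact Submodule.mul_mem_mul hu hk
  have hKNT : ∀ k ∈ K, ∀ u ∈ N, k * u ∈ T := fun k hk u hu => Submodule.mul_mem_mul hk hu
  set z := a₁ * a₂ - a₂ * a₁ with hz
  have hzK : z ∈ K := Submodule.sub_mem _ (Submodule.mul_mem_mul ha₁ ha₂)
    (Submodule.mul_mem_mul ha₂ ha₁)
  have hCAz : CA ≤ (F ∙ z) ⊔ T := by
    rw [hCA]
    refine Submodule.span_le.2 ?_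
    rintro _ ⟨⟨x, y⟩, rfl⟩
    obtain ⟨u, hu, w, hw, h⟩ := hcomm_eq x x.2 y y.2
    show (x : 𝒜) * y - y * x ∈ (F ∙ z) ⊔ T
    rw [h]
    obtain ⟨a, b, hab⟩ := hN2 u hu
    obtain ⟨c, d, hcd⟩ := hN2 w hw
    set k := u - (a • a₁ + b • a₂) with hk
    set l := w - (c • a₁ + d • a₂) with hl
    have hu' : u = a • a₁ + b • a₂ + k := by rw [hk]; abel
    have hw' : w = c • a₁ + d • a₂ + l := by rw [hl]; abel
    have hmain : u * w - w * u = (a * d - b * c) • z +
        ((a • a₁ + b • a₂) * l + k * w - (l * u + (c • a₁ + d • a₂) * k)) := by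
      rw [hu', hw']
      simp only [hz, add_mul, mul_add, smul_mul_assoc, mul_smul_comm, smul_sub, sub_smul, smul_smul,
        smul_add]
      module
    rw [hmain]
    refine Submodule.add_mem _ (Submodule.mem_sup_left (Submodule.smul_mem _ _
      (Submodule.mem_span_singleton_self z))) (Submodule.mem_sup_right ?_)
    exact T.sub_mem (T.add_mem (hNK _ (N.add_mem (N.smul_mem _ ha₁) (N.smul_mem _ ha₂)) _ hcd)
      (hKNT _ hab _ hw)) (T.add_mem (hKNT _ hcd _ hu)
      (hNK _ (N.add_mem (N.smul_mem _ ha₁) (N.smul_mem _ ha₂)) _ hab))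
  have hKz : ∀ k ∈ K, ∃ c : F, k - c • z ∈ T := by
    intro k hk
    obtain ⟨g, hg⟩ := hspan k (hNA (hKN hk))
    have hK1 := hCAK hg
    have h0 : g 0 = 0 := hE _ (by
      have := N.sub_mem (N.sub_mem (N.sub_mem (N.sub_mem (hKN hk) (hKN hK1))
        (N.smul_mem (g 3) (hKN (hTK hqT)))) (N.smul_mem (g 2) ha₂)) (N.smul_mem (g 1) ha₁)
      convert this using 1
      abel)
    obtain ⟨h1, h2⟩ := hind (g 1) (g 2) (by
      have := K.sub_mem (K.sub_mem hk hK1) (K.smul_mem (g 3) (hTK hqT))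
      convert this using 1
      rw [h0, zero_smul]
      abel)
    obtain ⟨y, hy, t, ht, hyt⟩ := Submodule.mem_sup.1 (hCAz hg)
    obtain ⟨c, rfl⟩ := Submodule.mem_span_singleton.1 hy
    refine ⟨c, ?_⟩
    have := T.add_mem ht (T.smul_mem (g 3) hqT)
    rw [h0, h1, h2, zero_smul, zero_smul, zero_smul, zero_add, zero_add, zero_add] at hyt
    convert this using 1
    have h4 : t = k - g 3 • q - c • z := by rw [← hyt]; abel
    rw [h4]
    abel
  -- the products in degree three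
  set U := T * N with hU
  have hTU : ∀ t ∈ T, ∀ u ∈ N, t * u ∈ U ∧ u * t ∈ U := fun t ht u hu =>
    ⟨Submodule.mul_mem_mul ht hu, by
      have h : N * T = U := by simp only [hU, hT, hK, mul_assoc]
      rw [← h]
      exact Submodule.mul_mem_mul hu ht⟩
  set μ := U.mkQ with hμ
  have hμ0 : ∀ {x}, x ∈ U → μ x = 0 := fun hx => (Submodule.Quotient.mk_eq_zero U).2 hx
  obtain ⟨a, ha⟩ := hKz _ (Submodule.mul_mem_mul ha₁ ha₁)
  obtain ⟨b, hb⟩ := hKz _ (Submodule.mul_mem_mul ha₁ ha₂)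
  obtain ⟨b', hb'⟩ := hKz _ (Submodule.mul_mem_mul ha₂ ha₁)
  obtain ⟨c, hc⟩ := hKz _ (Submodule.mul_mem_mul ha₂ ha₂)
  have hkey : ∀ u ∈ N, ∀ v ∈ N, ∀ w ∈ N, ∀ s t : F, u * v - s • z ∈ T → v * w - t • z ∈ T →
      s • μ (z * w) = t • μ (u * z) := by
    intro u hu v hv w hw s t hs ht
    rw [← map_smul, ← map_smul, ← sub_eq_zero, ← map_sub]
    refine hμ0 ?_
    have := U.sub_mem (hTU _ ht u hu).2 (hTU _ hs w hw).1
    convert this using 1
    simp only [sub_mul, mul_sub, smul_mul_assoc, mul_smul_comm, mul_assoc]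
    abel
  have hX0 : μ (z * a₁) = 0 ∧ μ (z * a₂) = 0 := by
    have e111 := hkey _ ha₁ _ ha₁ _ ha₁ _ _ ha ha
    have e112 := hkey _ ha₁ _ ha₁ _ ha₂ _ _ ha hb
    have e121 := hkey _ ha₁ _ ha₂ _ ha₁ _ _ hb hb'
    have e122 := hkey _ ha₁ _ ha₂ _ ha₂ _ _ hb hc
    have e211 := hkey _ ha₂ _ ha₁ _ ha₁ _ _ hb' ha
    have e212 := hkey _ ha₂ _ ha₁ _ ha₂ _ _ hb' hb
    have e221 := hkey _ ha₂ _ ha₂ _ ha₁ _ _ hc hb'
    have e222 := hkey _ ha₂ _ ha₂ _ ha₂ _ _ hc hc
    by_cases hzT : z ∈ T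
    · exact ⟨hμ0 (hTU z hzT _ ha₁).1, hμ0 (hTU z hzT _ ha₂).1⟩
    have hbb : b - b' = 1 := by
      by_contra h
      refine hzT ?_
      have h1 : (1 - (b - b')) • z ∈ T := by
        have := T.sub_mem hb hb'
        convert this using 1
        rw [sub_smul, one_smul, sub_smul, hz]
        abel
      have h2 := T.smul_mem (1 - (b - b'))⁻¹ h1
      rwa [smul_smul, inv_mul_cancel₀ (sub_ne_zero.2 (Ne.symm h)), one_smul] at h2
    set X := μ (z * a₁)
    set Y := μ (z * a₂)
    set X' := μ (a₁ * z)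
    set Y' := μ (a₂ * z)
    have hne : (1 : F) ≠ 0 := one_ne_zero
    by_cases haz : a = 0
    · by_cases hcz : c = 0
      · by_cases hb0 : b = 0
        · have hb'1 : b' ≠ 0 := fun h => by rw [h, hb0, sub_zero] at hbb; exact zero_ne_one hbb
          rw [haz, zero_smul] at e211
          have hX : X = 0 := (smul_eq_zero.1 e211).resolve_left hb'1
          rw [hcz, zero_smul] at e221
          have hY' : Y' = 0 := (smul_eq_zero.1 e221.symm).resolve_left hb'1
          rw [hb0, zero_smul] at e212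
          exact ⟨hX, (smul_eq_zero.1 e212).resolve_left hb'1⟩
        · rw [haz, zero_smul] at e112
          have hX' : X' = 0 := (smul_eq_zero.1 e112.symm).resolve_left hb0
          rw [hX', smul_zero] at e121
          rw [hcz, zero_smul] at e122
          exact ⟨(smul_eq_zero.1 e121).resolve_left hb0, (smul_eq_zero.1 e122).resolve_left hb0⟩
      · have hY : Y = Y' := smul_right_injective _ hcz e222
        rw [← hY] at e212
        have hY0 : Y = 0 := by
          have : (b - b') • Y = 0 := by rw [sub_smul, e212, sub_self]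
          rwa [hbb, one_smul] at this
        rw [← hY, hY0, smul_zero] at e221
        exact ⟨(smul_eq_zero.1 e221).resolve_left hcz, hY0⟩
    · have hX : X = X' := smul_right_injective _ haz e111
      rw [← hX] at e121
      have hX0 : X = 0 := by
        have : (b - b') • X = 0 := by rw [sub_smul, e121, sub_self]
        rwa [hbb, one_smul] at this
      rw [← hX, hX0, smul_zero] at e112
      exact ⟨hX0, (smul_eq_zero.1 e112).resolve_left haz⟩
  have hTT : T ≤ U := by
    refine Submodule.mul_le.2 fun k hk u hu => ?_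
    obtain ⟨s, hs⟩ := hKz k hk
    obtain ⟨r₁, r₂, hr'⟩ := hN2 u hu
    have h1 : (k - s • z) * u ∈ U := (hTU _ hs u hu).1
    have h2 : z * (u - (r₁ • a₁ + r₂ • a₂)) ∈ U := by
      have hKK : K * K = U := by simp only [hU, hT, hK, mul_assoc]
      rw [← hKK]
      exact Submodule.mul_mem_mul hzK hr'
    have h3 : ∀ {w}, μ w = 0 → w ∈ U := fun h => (Submodule.Quotient.mk_eq_zero U).1 h
    have := U.add_mem h1 (U.smul_mem s (U.add_mem h2
      (U.add_mem (U.smul_mem r₁ (h3 hX0.1)) (U.smul_mem r₂ (h3 hX0.2)))))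
    convert this using 1
    simp only [sub_mul, mul_sub, mul_add, smul_mul_assoc, mul_smul_comm, smul_add, smul_sub]
    abel
  have hpow : ∀ m : ℕ, T ≤ T * N ^ (m + 1) := by
    intro m
    induction m with
    | zero => rw [pow_one]; exact hTT
    | succ m ih =>
      refine ih.trans ?_
      rw [pow_succ' N (m + 1), ← mul_assoc]
      exact Submodule.mul_le.2 fun x hx y hy => Submodule.mul_mem_mul (hTT hx) hy
  exact le_bot_iff.1 ((hpow L).trans (by rw [hNL, Submodule.mul_bot]))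

variable (F) in
/-- The radical of every corner below `e` needs at most one generator. -/
def OneGenRadical (e : 𝒜) : Prop :=
  ∀ (E : 𝒜) (A N : Submodule F 𝒜), E * E = E → e * E = E →
    (∀ x, x ∈ A ↔ E * x = x ∧ x * E = x) → N ≤ A → N * N ≤ N → (∀ c : F, c • E ∈ N → c = 0) →
      (∀ x ∈ A, ∃ c : F, x - c • E ∈ N) → ∃ z ∈ N, N ≤ (F ∙ z) ⊔ N * N

variable (F) in
/-- Every corner below `e` whose traces fill at most `k` dimensions has dimension at most `b`. -/
def CornerBound (e : 𝒜) (Φ : 𝒜 →ₗ[F] W) (k b : ℕ) : Prop :=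
  ∀ (E : 𝒜) (A N CA : Submodule F 𝒜) (L : ℕ) (lam : 𝒜 →ₗ[F] F), E * E = E → e * E = E →
    (∀ x, x ∈ A ↔ E * x = x ∧ x * E = x) → N ≤ A → N * N ≤ N → N ^ (L + 1) = ⊥ →
      (∀ c : F, c • E ∈ N → c = 0) → (∀ x ∈ A, ∃ c : F, x - c • E ∈ N) →
        CA = Submodule.span F (Set.range fun q : A × A => (q.1 : 𝒜) * q.2 - q.2 * q.1) →
          (∀ x ∈ A, Φ x = 0 → x ∈ CA) → finrank F (A.map Φ) ≤ k → (∀ x ∈ CA, lam x = 0) →
            (∀ x y, lam (x * y) = lam (y * x)) →
              (∀ x ∈ A, (∀ y ∈ A, lam (x * y) = 0) → x = 0) → finrank F A ≤ b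

/-- With at most four traces, or one generator of the radical, the corners are commutative. -/
theorem cornerBound_commutative [FiniteDimensional F 𝒜] (e : 𝒜) (Φ : 𝒜 →ₗ[F] W) (k : ℕ)
    (hcase : k ≤ 4 ∨ OneGenRadical F e) : CornerBound F e Φ k k := by
  intro E A N CA L lam hEE heE hAmem hNA hNN hNL hπE00 hres hCA hkerA hrA hlam' _ hnd'
  have hcomm : ∀ x ∈ A, ∀ y ∈ A, Commute x y := by
    rcases hcase with hk4 | hgen'
    · exact commute_of_finrank_le Φ hEE hAmem hNA hNN hNL hπE00 hres hCA hkerA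
        (hrA.trans hk4) lam hlam' hnd'
    · obtain ⟨z, hz, hle⟩ := hgen' E A N hEE heE hAmem hNA hNN hπE00 hres
      obtain ⟨hz1, hz2⟩ := (hAmem z).1 (hNA hz)
      exact commute_of_gen hres hNN hNL hz hle (hz1.trans hz2.symm)
  have hCA0 : CA ≤ ⊥ := by
    rw [hCA]
    refine Submodule.span_le.2 ?_
    rintro _ ⟨⟨x, y⟩, rfl⟩
    simp [(hcomm x x.2 y y.2).eq]
  have hinj : Function.Injective (Φ.domRestrict A) := by
    rw [← LinearMap.ker_eq_bot, LinearMap.ker_eq_bot']
    intro x hx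
    exact Subtype.ext (hCA0 (hkerA x x.2 hx))
  calc finrank F A = finrank F (A.map Φ) := by
        rw [← LinearMap.range_domRestrict]
        exact (LinearMap.finrank_range_of_inj hinj).symm
    _ ≤ k := hrA

set_option maxHeartbeats 1000000 in
/-- In a block in which any two idempotents have proportional traces some idempotent generates
the block and has a small corner. -/
theorem exists_small_corner [IsAlgClosed F] [FiniteDimensional F 𝒜] (e : 𝒜) (he : e * e = e)
    (hec : ∀ x, e * x = x * e) (he0 : e ≠ 0) (Φ : 𝒜 →ₗ[F] W)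
    (hΦ : ∀ x, Φ x = 0 ↔ x ∈ commSpan F 𝒜) (k b : ℕ) (hbound : CornerBound F e Φ k b)
    (hr : finrank F ((LinearMap.range (LinearMap.mulLeft F e)).map Φ) ≤ k)
    (lam : 𝒜 →ₗ[F] F) (hlam : ∀ x, Φ x = 0 → lam x = 0)
    (hnd : ∀ x, (∀ y, lam (x * y) = 0) → x = 0)
    (hprop : ∀ E E' : 𝒜, E * E = E → e * E = E → E ≠ 0 → E' * E' = E' → e * E' = E' → E' ≠ 0 →
      ∃ a b : F, (a ≠ 0 ∨ b ≠ 0) ∧ a • Φ E = b • Φ E') :
    ∃ E : 𝒜, E * E = E ∧ e * E = E ∧ E ≠ 0 ∧ finrank F (LinearMap.range (cornerMap F E)) ≤ b ∧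
      ∃ (r : ℕ) (a' b' : Fin r → 𝒜), ∑ i, a' i * E * b' i = e := by
  classical
  obtain ⟨s, n, hn, π, hsurj, hker, hJ⟩ := exists_pi_map (F := F) (𝒜 := 𝒜)
  obtain ⟨L, hL⟩ : ∃ L : ℕ, Ring.jacobson 𝒜 ^ L = ⊥ := by
    haveI : IsArtinianRing 𝒜 := IsArtinianRing.of_finite F 𝒜
    exact IsSemiprimaryRing.isNilpotent
  have hnil : ∀ x, π x = 0 → IsNilpotent x := fun x hx => ⟨L, by
    have h := Ideal.pow_mem_pow (hker x hx) L
    rw [hL] at h
    exact h⟩
  set V := LinearMap.range (LinearMap.mulLeft F e) with hV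
  have hVmem : ∀ y, e * y ∈ V := fun y => ⟨y, rfl⟩
  have hVfix : ∀ x ∈ V, e * x = x := by
    rintro _ ⟨y, rfl⟩
    show e * (e * y) = e * y
    rw [← mul_assoc, he]
  -- the components where the block lives
  have hpe : ∀ i, π e i = 0 ∨ π e i = 1 := by
    intro i
    have hcen : ∀ Y : Matrix (Fin (n i)) (Fin (n i)) F, Commute Y (π e i) := fun Y => by
      obtain ⟨y, hy⟩ := hsurj (Pi.single i Y)
      have h := congrFun (congrArg π (hec y)) i
      rw [map_mul, map_mul, Pi.mul_apply, Pi.mul_apply, hy, Pi.single_eq_same] at h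
      exact h.symm
    obtain ⟨c, hc⟩ := Matrix.mem_range_scalar_of_commute_single (M := π e i) fun a b _ => hcen _
    have hidem := congrFun (congrArg π he) i
    rw [map_mul, Pi.mul_apply, ← hc, ← map_mul] at hidem
    haveI := hn i
    have hcc : c * c = c := Matrix.scalar_inj.1 hidem
    rcases mul_eq_zero.1 (show c * (c - 1) = 0 by rw [mul_sub, hcc, mul_one, sub_self]) with h | h
    · exact Or.inl (by rw [← hc, h, map_zero])
    · exact Or.inr (by rw [← hc, sub_eq_zero.1 h, map_one])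
  set τ : Fin s → 𝒜 →ₗ[F] F := fun i =>
    (Matrix.traceLinearMap (Fin (n i)) F F).comp
      ((LinearMap.proj i).comp π.toLinearMap) with hτ
  have hτv : ∀ i x, τ i x = Matrix.trace (π x i) := fun i x => rfl
  have hτC : ∀ i, ∀ x, Φ x = 0 → τ i x = 0 := by
    intro i x hx
    have hx' := (hΦ x).1 hx
    refine (Submodule.span_le.2 ?_ : commSpan F 𝒜 ≤ LinearMap.ker (τ i)) hx'
    rintro _ ⟨⟨a, b⟩, rfl⟩
    rw [SetLike.mem_coe, LinearMap.mem_ker, map_sub, hτv, hτv, map_mul, map_mul, Pi.mul_apply,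
      Pi.mul_apply, Matrix.trace_mul_comm, sub_self]
  have hone : ∃ i, π e i = 1 := by
    by_contra hno
    push Not at hno
    obtain ⟨m, hm⟩ := hnil e (funext fun i => (hpe i).resolve_right (hno i))
    rcases m with - | m
    · rw [pow_zero] at hm
      exact he0 (by rw [← mul_one e, hm, mul_zero])
    · exact he0 (by rw [← IsIdempotentElem.pow_succ_eq m he]; exact hm)
  obtain ⟨i₀, hi₀⟩ := hone
  haveI := hn i₀
  obtain ⟨w, hw⟩ := hsurj (Pi.single i₀ (Matrix.single 0 0 1))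
  -- a single component
  have honly : ∀ i, i ≠ i₀ → π e i = 0 := by
    intro i hi
    refine (hpe i).resolve_right fun hi1 => ?_
    haveI := hn i
    have hlift : ∀ (l : Fin s) (Y : Matrix (Fin (n l)) (Fin (n l)) F), π e l = 1 → Y * Y = Y →
        ∃ E : 𝒜, E * E = E ∧ e * E = E ∧ π E = Pi.single l Y := by
      intro l Y hl hY
      obtain ⟨y, hy⟩ := hsurj (Pi.single l Y)
      obtain ⟨E₁, hE₁, hE₁π⟩ := exists_isIdempotentElem_eq_of_ker_isNilpotent (π : 𝒜 →+* _)
        (fun x hx => hnil x (RingHom.mem_ker.1 hx)) (π y) ⟨y, rfl⟩ (by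
          rw [IsIdempotentElem, hy, ← Pi.single_mul, hY])
      refine ⟨e * E₁, ?_, by rw [← mul_assoc, he], ?_⟩
      · rw [mul_assoc, ← mul_assoc E₁, ← hec, mul_assoc e E₁, ← mul_assoc, he, hE₁.eq]
      · have h : π E₁ = π y := hE₁π
        rw [map_mul, h, hy]
        funext m
        rcases eq_or_ne m l with rfl | hm
        · simp [hl]
        · simp [hm]
    obtain ⟨E, hE, heE, hπE⟩ := hlift i₀ (Matrix.single 0 0 1) hi₀ (by simp)
    obtain ⟨E', hE', heE', hπE'⟩ := hlift i (Matrix.single 0 0 1) hi1 (by simp)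
    have hτE : τ i₀ E = 1 ∧ τ i E = 0 ∧ τ i₀ E' = 0 ∧ τ i E' = 1 := by
      refine ⟨?_, ?_, ?_, ?_⟩ <;> simp [hτv, hπE, hπE', hi, hi.symm]
    obtain ⟨a, b, hab, h⟩ := hprop E E' hE heE
      (fun h => by rw [h, map_zero] at hτE; exact zero_ne_one hτE.1) hE' heE'
      (fun h => by rw [h, map_zero, map_zero] at hτE; exact zero_ne_one hτE.2.2.2)
    rw [← map_smul, ← map_smul, ← sub_eq_zero, ← map_sub] at h
    have h1 := hτC i₀ _ h
    have h2 := hτC i _ h
    simp only [map_sub, map_smul, hτE, smul_eq_mul, mul_one, mul_zero, sub_zero, zero_sub,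
      neg_eq_zero] at h1 h2
    exact hab.elim (fun ha => ha h1) (fun hb => hb h2)
  -- the idempotent
  have hπe : π e = Pi.single i₀ 1 := funext fun i => by
    rcases eq_or_ne i i₀ with rfl | hi
    · rw [hi₀, Pi.single_eq_same]
    · rw [honly i hi, Pi.single_eq_of_ne hi]
  obtain ⟨E₀, hE₀, hE₀π⟩ := exists_isIdempotentElem_eq_of_ker_isNilpotent (π : 𝒜 →+* _)
    (fun x hx => hnil x (RingHom.mem_ker.1 hx)) (π (e * w)) ⟨e * w, rfl⟩ (by
      rw [IsIdempotentElem, map_mul, hπe, hw, ← Pi.single_mul, ← Pi.single_mul, one_mul,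
        Matrix.single_mul_single_same, mul_one])
  set E := e * E₀ with hE
  have hEE : E * E = E := by
    rw [hE, mul_assoc, ← mul_assoc E₀, ← hec, mul_assoc e E₀, ← mul_assoc, he, hE₀.eq]
  have heE : e * E = E := by rw [hE, ← mul_assoc, he]
  have hπE : π E = Pi.single i₀ (Matrix.single 0 0 1) := by
    have h : π E₀ = π (e * w) := hE₀π
    rw [hE, map_mul, h, ← map_mul, ← mul_assoc, he, map_mul, hπe, hw, ← Pi.single_mul, one_mul]
  clear_value E
  -- it generates the block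
  have hmat : ∀ a b : Fin (n i₀), ∃ y, π y = Pi.single i₀ (Matrix.single a b 1) :=
    fun a b => hsurj _
  choose mu hmu using hmat
  set S := ∑ a, e * mu a 0 * E * mu 0 a with hS
  have hπS : π S = π e := by
    rw [hS, map_sum, hπe]
    simp only [map_mul, hmu, hπe, hπE, ← Pi.single_mul, one_mul, Matrix.single_mul_single_same,
      mul_one]
    refine (map_sum (AddMonoidHom.single (fun i => Matrix (Fin (n i)) (Fin (n i)) F) i₀)
      (fun a => Matrix.single a a (1 : F)) Finset.univ).symm.trans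
      (congrArg (Pi.single i₀) ?_)
    ext a b
    rw [Matrix.sum_apply, Matrix.one_apply]
    by_cases hab : a = b
    · subst hab
      simp [Matrix.single_apply]
    · rw [if_neg hab]
      refine Finset.sum_eq_zero fun c _ => ?_
      simp only [Matrix.single_apply]
      rw [if_neg]
      rintro ⟨rfl, rfl⟩
      exact hab rfl
  have heS : e * S = S := by
    rw [hS, Finset.mul_sum]
    exact Finset.sum_congr rfl fun a _ => by simp only [← mul_assoc, he]
  obtain ⟨v, hv⟩ := (hnil (e - S) (by rw [map_sub, hπS, sub_self])).isUnit_one_sub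
  have hv' : e * (v : 𝒜) = S := by
    rw [hv, mul_sub, mul_one, mul_sub, he, heS, sub_sub_cancel]
  have hgen : ∑ a, e * mu a 0 * E * (mu 0 a * (↑v⁻¹ : 𝒜)) = e := by
    simp only [← mul_assoc, ← Finset.sum_mul]
    rw [← hS, ← hv', mul_assoc, Units.mul_inv, mul_one]
  have hE0 : E ≠ 0 := fun h => by
    have h' := congrFun (congrFun (congrFun hπE i₀) 0) 0
    simp [h, Matrix.single_apply] at h'
  refine ⟨E, hEE, heE, hE0, ?_, n i₀, fun a => e * mu a 0, fun a => mu 0 a * (↑v⁻¹ : 𝒜), hgen⟩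
  -- the corner
  set A := LinearMap.range (cornerMap F E) with hA
  set N := A ⊓ LinearMap.ker π.toLinearMap with hN
  have hAE : E ∈ A := (mem_corner hEE).2 ⟨hEE, hEE⟩
  have hAV : A ≤ V := fun x hx => by
    obtain ⟨h1, -⟩ := (mem_corner hEE).1 hx
    exact ⟨x, show e * x = x by rw [← h1, ← mul_assoc, heE]⟩
  have hAmul : ∀ x ∈ A, ∀ y ∈ A, x * y ∈ A := fun x hx y hy => (mem_corner hEE).2
    ⟨by rw [← mul_assoc, ((mem_corner hEE).1 hx).1],
      by rw [mul_assoc, ((mem_corner hEE).1 hy).2]⟩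
  have hNN : N * N ≤ N := Submodule.mul_le.2 fun x hx y hy => ⟨hAmul x hx.1 y hy.1, by
    show π (x * y) = 0
    rw [map_mul, show π x = 0 from hx.2, zero_mul]⟩
  have hres : ∀ x ∈ A, ∃ c : F, x - c • E ∈ N := by
    intro x hx
    refine ⟨π x i₀ 0 0, A.sub_mem hx (A.smul_mem _ hAE), ?_⟩
    show π (x - π x i₀ 0 0 • E) = 0
    obtain ⟨h1, h2⟩ := (mem_corner hEE).1 hx
    have hx' : π x = Pi.single i₀ (π x i₀ 0 0 • Matrix.single 0 0 1) := by
      funext k
      have h3 : π x k = π E k * π x k * π E k := by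
        rw [← Pi.mul_apply, ← Pi.mul_apply, ← map_mul, ← map_mul, h1, h2]
      rw [hπE] at h3
      rcases eq_or_ne k i₀ with rfl | hk
      · rw [Pi.single_eq_same] at h3 ⊢
        conv_lhs => rw [h3]
        rw [Matrix.single_mul_mul_single, one_mul, mul_one, Matrix.smul_single, smul_eq_mul,
          mul_one]
      · rw [Pi.single_eq_of_ne hk] at h3 ⊢
        rw [h3, zero_mul, zero_mul]
    rw [map_sub, map_smul, hπE, ← Pi.single_smul, ← hx', sub_self]
  set CA := Submodule.span F (Set.range fun q : A × A => (q.1 : 𝒜) * q.2 - q.2 * q.1) with hCA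
  set a' : Fin (n i₀) → 𝒜 := fun a => e * mu a 0
  set b' : Fin (n i₀) → 𝒜 := fun a => mu 0 a * (↑v⁻¹ : 𝒜)
  have hgen' : ∑ a, a' a * E * b' a = e := hgen
  set T : 𝒜 →ₗ[F] 𝒜 :=
    ∑ a, (LinearMap.mulLeft F (E * b' a)).comp (LinearMap.mulRight F (e * a' a * E)) with hT
  have hTv : ∀ y, T y = ∑ a, E * b' a * (y * (e * a' a * E)) := fun y => by
    simp [T, mul_assoc]
  have hcm : ∀ y z, (E * y * E) * (E * z * E) - (E * z * E) * (E * y * E) ∈ CA := fun y z =>
    Submodule.subset_span ⟨(⟨E * y * E, (mem_corner hEE).2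
      ⟨by rw [← mul_assoc, ← mul_assoc, hEE], by rw [mul_assoc, hEE]⟩⟩, ⟨E * z * E, (mem_corner
        hEE).2 ⟨by rw [← mul_assoc, ← mul_assoc, hEE], by rw [mul_assoc, hEE]⟩⟩), rfl⟩
  have hTmul : ∀ y z, T (y * z) =
      ∑ a, ∑ b, (E * (b' a * y * a' b) * E) * (E * (b' b * z * (e * a' a)) * E) := by
    intro y z
    rw [hTv]
    refine Finset.sum_congr rfl fun a _ => ?_
    calc E * b' a * (y * z * (e * a' a * E))
        = E * b' a * (y * (e * z) * (e * a' a * E)) := by
          rw [hec z]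
          simp only [mul_assoc]
          rw [← mul_assoc e e, he]
      _ = ∑ b, E * b' a * (y * (a' b * E * b' b * z) * (e * a' a * E)) := by
          rw [← hgen', Finset.sum_mul, Finset.mul_sum, Finset.sum_mul, Finset.mul_sum]
      _ = _ := Finset.sum_congr rfl fun b _ => by
          simp only [← mul_assoc]
          rw [mul_assoc (E * b' a * y * a' b) E E, hEE]
  have hTcomm : ∀ x ∈ commSpan F 𝒜, T x ∈ CA := by
    intro x hx
    refine (Submodule.span_le.2 ?_ : commSpan F 𝒜 ≤ CA.comap T) hx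
    rintro _ ⟨⟨y, z⟩, rfl⟩
    show T (y * z - z * y) ∈ CA
    have hswap : ∀ a b, E * (b' a * y * a' b) * E * (E * (b' b * z * (e * a' a)) * E) =
        E * (b' a * y * (e * a' b)) * E * (E * (b' b * z * a' a) * E) := by
      intro a b
      have : ∀ c, e * a' c = a' c := fun c => by simp only [a', ← mul_assoc, he]
      simp only [this]
    rw [map_sub, hTmul, hTmul, Finset.sum_comm (γ := Fin (n i₀))
      (f := fun a b => E * (b' a * z * a' b) * E * (E * (b' b * y * (e * a' a)) * E)),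
      ← Finset.sum_sub_distrib]
    refine Submodule.sum_mem _ fun a _ => ?_
    rw [← Finset.sum_sub_distrib]
    refine Submodule.sum_mem _ fun b _ => ?_
    rw [hswap]
    exact hcm _ _
  have hTfix : ∀ x ∈ A, T x - x ∈ CA := by
    intro x hx
    obtain ⟨h1, h2⟩ := (mem_corner hEE).1 hx
    have hx2 : x = ∑ a, (E * (x * (e * a' a)) * E) * (E * b' a * E) := by
      calc x = x * e * E := by rw [mul_assoc, heE, h2]
        _ = ∑ a, x * (a' a * E * b' a) * E := by
            rw [← hgen', Finset.mul_sum, Finset.sum_mul]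
        _ = _ := Finset.sum_congr rfl fun a _ => by
            have : e * a' a = a' a := by simp only [a', ← mul_assoc, he]
            rw [this, ← mul_assoc E x, h1]
            simp only [← mul_assoc]
            rw [mul_assoc (x * a' a) E E, hEE]
    have hT2 : T x = ∑ a, (E * b' a * E) * (E * (x * (e * a' a)) * E) := by
      rw [hTv]
      refine Finset.sum_congr rfl fun a _ => ?_
      simp only [← mul_assoc]
      rw [mul_assoc (E * b' a) E E, hEE, mul_assoc (E * b' a) E x, h1]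
    rw [hT2]
    nth_rewrite 2 [hx2]
    rw [← Finset.sum_sub_distrib]
    exact Submodule.sum_mem _ fun a _ => hcm _ _
  have hCA_N : CA ≤ N * N := by
    refine Submodule.span_le.2 ?_
    rintro _ ⟨⟨x, y⟩, rfl⟩
    obtain ⟨c, hc⟩ := hres x x.2
    obtain ⟨d, hd⟩ := hres y y.2
    obtain ⟨hx1, hx2⟩ := (mem_corner hEE).1 x.2
    obtain ⟨hy1, hy2⟩ := (mem_corner hEE).1 y.2
    have hre : (x : 𝒜) * y - y * x =
        ((x : 𝒜) - c • E) * (y - d • E) - (y - d • E) * (x - c • E) := by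
      simp only [sub_mul, mul_sub, smul_mul_assoc, mul_smul_comm, hEE, hx1, hx2, hy1, hy2,
        smul_sub, smul_smul]
      module
    show (x : 𝒜) * y - y * x ∈ N * N
    rw [hre]
    exact Submodule.sub_mem _ (Submodule.mul_mem_mul hc hd) (Submodule.mul_mem_mul hd hc)
  have hkerA : ∀ x ∈ A, Φ x = 0 → x ∈ CA := fun x hx h0 => by
    have h1 := hTcomm x ((hΦ x).1 h0)
    have h2 := hTfix x hx
    have h3 := CA.sub_mem h1 h2
    rwa [sub_sub_cancel] at h3
  have hπE00 : ∀ c : F, c • E ∈ N → c = 0 := by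
    intro c hc
    have h : π (c • E) = 0 := hc.2
    have h2 := congrFun (congrFun (congrFun h i₀) 0) 0
    simpa [map_smul, hπE, Matrix.single_apply] using h2
  have hrA : finrank F (A.map Φ) ≤ k := (Submodule.finrank_mono (Submodule.map_mono hAV)).trans hr
  have hAmem : ∀ x, x ∈ A ↔ E * x = x ∧ x * E = x := fun x => mem_corner hEE
  have hlam' : ∀ x ∈ CA, lam x = 0 := fun x hx => hlam x ((hΦ x).2 (by
    refine (Submodule.span_le.2 ?_ : CA ≤ commSpan F 𝒜) hx
    rintro _ ⟨⟨y, z⟩, rfl⟩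
    exact comm_mem_commSpan (y : 𝒜) z))
  have htr : ∀ x y, lam (x * y) = lam (y * x) := fun x y => by
    rw [← sub_eq_zero, ← map_sub]
    exact hlam _ ((hΦ _).2 (comm_mem_commSpan x y))
  have hnd' : ∀ x ∈ A, (∀ y ∈ A, lam (x * y) = 0) → x = 0 := fun x hx h => hnd x fun y => by
    obtain ⟨h1, h2⟩ := (hAmem x).1 hx
    have hy := h (E * (y * E)) ⟨y, rfl⟩
    rw [← mul_assoc x E, h2, ← mul_assoc, htr (x * y) E, ← mul_assoc, h1] at hy
    exact hy
  have hNA : N ≤ A := fun x (hx : x ∈ N) => hx.1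
  have hNL := pow_eq_bot_of_le_jacobson hL (N := N) fun x hx => hker x hx.2
  exact hbound E A N CA L lam hEE heE hAmem hNA hNN hNL hπE00 hres hCA hkerA hrA hlam' htr hnd'

end Cfsg.Agent.BlockCharsA.RankOneSmall
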