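import Mathlib
import Cfsg.Agent.BlockCharsA.TwoChars.Lift
import Cfsg.Agent.BlockCharsA.RankOne
import Cfsg.Agent.BlockCharsA.RankOneSmall.Algebra

/-!
# Blocks of rank one with at most four characters
-/

set_option linter.style.haveILetI false
set_option linter.unusedSectionVars false

namespace Cfsg.Agent.BlockCharsA.RankOneSmall

open Module MonoidAlgebra Cfsg.Agent.Blocks Cfsg.Agent.Characters Cfsg.Agent.Blocks.Star
open Cfsg.Agent.Blocks.Lattice Cfsg.Agent.BlockCharsA.TwoChars
open scoped ComplexConjugate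

universe u

variable {G : Type u} [Group G] [Finite G] {p : ℕ} {M : Ideal Cfsg.AlgInt}

/-- Idempotents below a central idempotent lift. -/
theorem exists_lift_idem (hM : Cfsg.IsPModular p M) {eB : IntAlg hM G} (hee : eB * eB = eB)
    (hec : ∀ x, eB * x = x * eB) {E : MonoidAlgebra (Res hM) G} (hE : E * E = E)
    (heE : red hM eB * E = E) :
    ∃ j : IntAlg hM G, j * j = j ∧ eB * j = j ∧ red hM j = E := by
  haveI : Module.Finite (Loc hM) (IntAlg hM G) :=
    Module.Finite.of_basis (MonoidAlgebra.basis G (Loc hM))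
  obtain ⟨z, hz⟩ := red_surjective hM E
  obtain ⟨q, hq, hqz⟩ := exists_idem_lift (splitsAll_loc hM) (z := z)
    (mem_mR_of_red hM (by rw [map_sub, map_mul, hz, hE, sub_self]))
  refine ⟨eB * Polynomial.aeval z q, ?_, by rw [← mul_assoc, hee], ?_⟩
  · rw [mul_assoc, ← mul_assoc _ eB, ← hec, mul_assoc eB _, ← mul_assoc, hee, hq]
  · have := red_of_mem_mR hM hqz
    rw [map_sub, sub_eq_zero] at this
    rw [map_mul, this, hz, heE]

/-- Nakayama: a corner over `ℂ` is no bigger than its reduction. -/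
theorem finrank_corner_le (hM : Cfsg.IsPModular p M) {j : IntAlg hM G} (hjj : j * j = j) :
    finrank ℂ (LinearMap.range (cornerMap ℂ (inc hM j))) ≤
      finrank (Res hM) (LinearMap.range (cornerMap (Res hM) (red hM j))) := by
  classical
  haveI := Fintype.ofFinite G
  haveI : Module.Finite (Res hM) (MonoidAlgebra (Res hM) G) :=
    Module.Finite.of_basis (MonoidAlgebra.basis G (Res hM))
  haveI : Module.Finite (Loc hM) (IntAlg hM G) :=
    Module.Finite.of_basis (MonoidAlgebra.basis G (Loc hM))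
  set E := red hM j with hE
  set A := LinearMap.range (cornerMap (Res hM) E) with hA
  set r := finrank (Res hM) A
  set bas : Basis (Fin r) (Res hM) A := Module.finBasis (Res hM) A
  have hY : ∀ i, ∃ Y : IntAlg hM G,
      red hM (j * (Y * j)) = (bas i : MonoidAlgebra (Res hM) G) := fun i => by
    obtain ⟨y, hy⟩ := (bas i).2
    obtain ⟨Y, rfl⟩ := red_surjective hM y
    exact ⟨Y, by rw [map_mul, map_mul, ← hE]; exact hy⟩
  choose Y hY using hY
  set f := (LinearMap.mulLeft (Loc hM) j).comp (LinearMap.mulRight (Loc hM) j) with hf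
  set C := LinearMap.range f with hC
  have hCfg : C.FG := by
    rw [hC, LinearMap.range_eq_map]
    exact Module.Finite.fg_top.map _
  set N := Submodule.span (Loc hM) (Set.range fun i => j * (Y i * j)) with hN
  have hfix : ∀ w, j * (j * (w * j) * j) = j * (w * j) := fun w => by
    rw [mul_assoc j (w * j), mul_assoc w, hjj, ← mul_assoc, hjj]
  have hCN : C ≤ N := by
    refine Submodule.le_of_le_smul_of_le_jacobson_bot hCfg
      (IsLocalRing.jacobson_eq_maximalIdeal ⊥ bot_ne_top).ge (I := IsLocalRing.maximalIdeal (Loc hM))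
      ?_
    intro x hx
    obtain ⟨y, rfl⟩ := hx
    show j * (y * j) ∈ _
    have hmemA : red hM (j * (y * j)) ∈ A := ⟨red hM y, by rw [map_mul, map_mul, ← hE]; rfl⟩
    choose s hs using fun i =>
      IsLocalRing.residue_surjective (R := Loc hM) (bas.repr ⟨_, hmemA⟩ i)
    set S := ∑ i, s i • (j * (Y i * j)) with hS
    have hredS : red hM S = red hM (j * (y * j)) := by
      have h := congrArg Subtype.val (bas.sum_repr ⟨_, hmemA⟩)
      rw [hS, map_sum]
      simp only [red_smul, hs, hY]
      refine Eq.trans ?_ h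
      rw [Submodule.coe_sum]
      simp only [Submodule.coe_smul]
    have hdiff : j * (y * j) - S ∈ mR (Loc hM) (IntAlg hM G) :=
      mem_mR_of_red hM (by rw [map_sub, hredS, sub_self])
    have hm : f (j * (y * j) - S) ∈ IsLocalRing.maximalIdeal (Loc hM) • C := by
      have h2 := Submodule.mem_map_of_mem (f := f) hdiff
      rwa [mR, Submodule.map_smul'', Submodule.map_top] at h2
    have hval : f (j * (y * j) - S) = j * (y * j) - S := by
      show j * ((j * (y * j) - S) * j) = _
      simp only [hS, sub_mul, mul_sub, Finset.sum_mul, Finset.mul_sum, smul_mul_assoc,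
        mul_smul_comm, hfix]
    rw [hval] at hm
    exact Submodule.mem_sup.2 ⟨S, Submodule.sum_mem _ fun i _ => Submodule.smul_mem _ _
      (Submodule.subset_span ⟨i, rfl⟩), _, hm, add_sub_cancel _ _⟩
  have hle : LinearMap.range (cornerMap ℂ (inc hM j)) ≤
      Submodule.span ℂ (Set.range fun i => inc hM (j * (Y i * j))) := by
    rintro _ ⟨x, rfl⟩
    rw [eq_sum_single x, map_sum]
    refine Submodule.sum_mem _ fun g _ => ?_
    rw [show (single g (x.coeff g) : MonoidAlgebra ℂ G) = x.coeff g • inc hM (single g 1) by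
      rw [push_single, smul_single, map_one, smul_eq_mul, mul_one], map_smul]
    refine Submodule.smul_mem _ _ ?_
    show inc hM j * (inc hM (single g 1) * inc hM j) ∈ _
    rw [← map_mul, ← map_mul]
    have hmem : j * (single g 1 * j) ∈ N := hCN ⟨_, rfl⟩
    rw [hN, Submodule.mem_span_range_iff_exists_fun] at hmem
    obtain ⟨c, hc⟩ := hmem
    rw [← hc, map_sum]
    refine Submodule.sum_mem _ fun i _ => ?_
    rw [push_smul]
    exact Submodule.smul_mem _ _ (Submodule.subset_span ⟨i, rfl⟩)
  haveI : FiniteDimensional ℂ (MonoidAlgebra ℂ G) :=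
    Module.Finite.of_basis (MonoidAlgebra.basis G ℂ)
  refine (Submodule.finrank_mono hle).trans ((finrank_range_le_card _).trans ?_)
  rw [Fintype.card_fin]

variable {B : Set (Cfsg.IrrCharacter G)}

theorem evalChar_eq_zero_of_notMem {j : MonoidAlgebra ℂ G} (hej : blockIdem B * j = j)
    {χ : Cfsg.IrrCharacter G} (hχ : χ ∉ B) : evalChar (χ : G → ℂ) j = 0 := by
  rw [← hej, evalChar_central_mul χ (central_blockIdem B), omega_blockIdem_notMem hχ, zero_mul]

/-- The traces in a block are at most as many as its characters. -/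
theorem finrank_traces_le (hM : Cfsg.IsPModular p M) {eB : IntAlg hM G}
    (heB : inc hM eB = blockIdem B) :
    finrank (Res hM) ((LinearMap.range (LinearMap.mulLeft (Res hM) (red hM eB))).map classCoeff) ≤
      Nat.card B := by
  classical
  haveI := Fintype.ofFinite G
  haveI := Fintype.ofFinite (Cfsg.IrrCharacter G)
  haveI := Fintype.ofFinite B
  haveI : Module.Finite (Res hM) (MonoidAlgebra (Res hM) G) :=
    Module.Finite.of_basis (MonoidAlgebra.basis G (Res hM))
  set ι := (Loc hM).subtype with hι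
  by_contra hlt
  push Not at hlt
  set S := (LinearMap.range (LinearMap.mulLeft (Res hM) (red hM eB))).map classCoeff
  obtain ⟨f, hf⟩ := exists_linearIndependent_of_le_finrank (R := Res hM) (M := S)
    (n := Nat.card B + 1) (by omega)
  have hmem : ∀ i, ∃ x : IntAlg hM G,
      classCoeff (red hM (eB * x)) = (f i : ConjClasses G → Res hM) := by
    intro i
    obtain ⟨y, ⟨w, hw⟩, hy⟩ := (f i).2
    obtain ⟨x, rfl⟩ := red_surjective hM w
    refine ⟨x, ?_⟩
    rw [map_mul, ← hy, ← hw]
    rfl
  choose x hx using hmem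
  set w : Fin (Nat.card B + 1) → B → ℂ := fun i χ => evalChar ((χ : Cfsg.IrrCharacter G) : G → ℂ)
    (inc hM (x i))
  have hdep : ¬ LinearIndependent ℂ w := fun hh => by
    have := hh.fintype_card_le_finrank
    rw [Fintype.card_fin, Module.finrank_fintype_fun_eq_card, Nat.card_eq_fintype_card] at this
    omega
  rw [Fintype.not_linearIndependent_iff] at hdep
  obtain ⟨c, hc, i, hci⟩ := hdep
  have hzero : ∀ C : ConjClasses G, ∑ i, c i * ι (classCoeff (eB * x i) C) = 0 := by
    intro C
    obtain ⟨g, rfl⟩ := ConjClasses.mk_surjective C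
    have hn : (Nat.card (Subgroup.centralizer ({g} : Set G)) : ℂ) ≠ 0 :=
      Nat.cast_ne_zero.2 Nat.card_pos.ne'
    refine mul_left_cancel₀ hn ?_
    rw [Finset.mul_sum, mul_zero]
    have hterm : ∀ i, (Nat.card (Subgroup.centralizer ({g} : Set G)) : ℂ) *
        (c i * ι (classCoeff (eB * x i) (ConjClasses.mk g))) =
        ∑ χ : Cfsg.IrrCharacter G, conj ((χ : G → ℂ) g) * omega (χ : G → ℂ) (blockIdem B) *
          (c i * evalChar (χ : G → ℂ) (inc hM (x i))) := by
      intro i
      rw [classCoeff_map ι, mul_left_comm]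
      show c i * (_ * classCoeff (inc hM (eB * x i)) _) = _
      rw [← sum_conj_evalChar, map_mul, heB, Finset.mul_sum]
      refine Finset.sum_congr rfl fun χ _ => ?_
      rw [evalChar_central_mul χ (central_blockIdem B)]
      ring
    simp only [hterm]
    rw [Finset.sum_comm]
    refine Finset.sum_eq_zero fun χ _ => ?_
    rw [← Finset.mul_sum]
    by_cases hχ : χ ∈ B
    · refine mul_eq_zero_of_right _ ?_
      simpa [Finset.sum_apply, w] using congrFun hc ⟨χ, hχ⟩
    · rw [omega_blockIdem_notMem hχ, mul_zero, zero_mul]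
  refine not_independent_residue ι (fun i C => classCoeff (eB * x i) C) c
    (fun h => hci (congrFun h i)) hzero ?_
  have he' : (fun i => fun C => IsLocalRing.residue (Loc hM) (classCoeff (eB * x i) C)) =
      fun i => (f i : ConjClasses G → Res hM) := by
    funext i C
    rw [classCoeff_map (IsLocalRing.residue (Loc hM)), ← hx i]
  rw [he']
  exact hf.map' S.subtype (Submodule.ker_subtype S)

/-- The character of a projective lattice vanishes at `p`-singular elements. -/
theorem sum_conj_coeff_singular [Fintype G] (hM : Cfsg.IsPModular p M) {j : MonoidAlgebra ℂ G}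
    (hji : IntEl M j) (hjj : j * j = j) {s : G} (hs : p ∣ orderOf s) :
    ∑ v : G, j.coeff (v * s * v⁻¹) = 0 := by
  obtain ⟨z, w, hzw, hc, hzo, hwo⟩ := exists_ppart hM.1 s
  have h1 := sum_conj_shift_eq_zero hM hji hjj (Commute.refl (1 : G)) hc
    ⟨0, by simp⟩ (by simpa using hM.1.ne_one) hzo hwo (fun g => by simp) (fun g => by simp)
    (fun h => absurd h (not_isConj_one_of_singular hs ⟨w, hzw, hc, hzo, hwo⟩))
  simpa [hzw] using h1

open scoped Classical in
/-- A projective character of a block of rank one is a multiple of the decomposition vector. -/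
theorem exists_scale [Fintype (Cfsg.IrrCharacter G)] (hM : Cfsg.IsPModular p M) {φ : G → ℂ}
    {d : Cfsg.IrrCharacter G → ℕ} {m : Cfsg.IrrCharacter G → ℤ}
    (hd : ∀ χ ∈ B, ∀ x : G, Cfsg.IsPRegular p x → (χ : G → ℂ) x = (d χ : ℂ) * φ x)
    (hm : ∑ χ ∈ Finset.univ.filter (· ∈ B), (m χ : ℂ) * (d χ : ℂ) = 1)
    {j : MonoidAlgebra ℂ G} (hji : IntEl M j) (hjj : j * j = j) (hej : blockIdem B * j = j)
    (hj0 : j ≠ 0) :
    ∃ t : ℕ, 0 < t ∧ ∀ χ ∈ B, evalChar (χ : G → ℂ) j = (t * d χ : ℕ) := by
  haveI := Fintype.ofFinite G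
  choose n hn hn0 using fun χ : Cfsg.IrrCharacter G => evalChar_idem_nat χ hjj
  set s : ℂ := (Nat.card G : ℂ)⁻¹ *
    ∑ x : G, if p ∣ orderOf x then 0 else φ x * ∑ v : G, j.coeff (v * x * v⁻¹)
  have hprop : ∀ χ ∈ B, (n χ : ℂ) = (d χ : ℂ) * s := by
    intro χ hχ
    have hsum : ∑ x : G, (χ : G → ℂ) x * ∑ v : G, j.coeff (v * x * v⁻¹) =
        (Nat.card G : ℂ) * evalChar (χ : G → ℂ) j := by
      simp only [Finset.mul_sum]
      rw [Finset.sum_comm]
      rw [Nat.card_eq_fintype_card, ← Finset.card_univ, evalChar_eq_sum, Finset.mul_sum]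
      rw [Finset.sum_congr rfl (g := fun _ : G => ∑ g : G, j.coeff g * (χ : G → ℂ) g) fun v _ => ?_]
      · rw [Finset.sum_const, nsmul_eq_mul, Finset.mul_sum]
      refine Fintype.sum_equiv (MulAut.conj v).toEquiv _ _ fun x => ?_
      show (χ : G → ℂ) x * j.coeff (v * x * v⁻¹) = j.coeff (v * x * v⁻¹) * (χ : G → ℂ) (v * x * v⁻¹)
      rw [irr_isClassFunction χ x v, mul_comm]
    have hG : (Nat.card G : ℂ) ≠ 0 := natCard_ne_zero
    rw [← hn χ]
    apply mul_left_cancel₀ hG
    rw [← hsum, ← mul_assoc, mul_comm (Nat.card G : ℂ), mul_assoc, ← mul_assoc (Nat.card G : ℂ),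
      mul_inv_cancel₀ hG, one_mul, Finset.mul_sum]
    refine Finset.sum_congr rfl fun x _ => ?_
    by_cases hx : p ∣ orderOf x
    · rw [if_pos hx, sum_conj_coeff_singular hM hji hjj hx, mul_zero, mul_zero]
    · rw [if_neg hx, hd χ hχ x hx, mul_assoc]
  have hs : s = ((∑ χ ∈ Finset.univ.filter (· ∈ B), m χ * (n χ : ℤ) : ℤ) : ℂ) := by
    push_cast
    calc s = (∑ χ ∈ Finset.univ.filter (· ∈ B), (m χ : ℂ) * (d χ : ℂ)) * s := by rw [hm, one_mul]
      _ = _ := by
        rw [Finset.sum_mul]
        refine Finset.sum_congr rfl fun χ hχ => ?_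
        rw [hprop χ (Finset.mem_filter.1 hχ).2, mul_assoc]
  set T := ∑ χ ∈ Finset.univ.filter (· ∈ B), m χ * (n χ : ℤ)
  have hTn : ∀ χ ∈ B, (n χ : ℤ) = (d χ : ℤ) * T := fun χ hχ => by
    have := hprop χ hχ
    rw [hs] at this
    exact_mod_cast this
  obtain ⟨χ₀, hχ₀, hne⟩ : ∃ χ ∈ B, n χ ≠ 0 := by
    by_contra hno
    push Not at hno
    apply hj0
    have h0 : ∀ χ : Cfsg.IrrCharacter G, evalChar (χ : G → ℂ) j = 0 := fun χ => by
      by_cases hχ : χ ∈ B
      · rw [hn, hno χ hχ, Nat.cast_zero]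
      · exact evalChar_eq_zero_of_notMem hej hχ
    have h := finrank_corner_eq hjj
    simp only [h0, ne_eq, OfNat.ofNat_ne_zero, not_false_eq_true, zero_pow,
      Finset.sum_const_zero, Nat.cast_eq_zero] at h
    haveI : FiniteDimensional ℂ (MonoidAlgebra ℂ G) :=
      Module.Finite.of_basis (MonoidAlgebra.basis G ℂ)
    have hmem : j ∈ LinearMap.range (cornerMap ℂ j) := (mem_corner hjj).2 ⟨hjj, hjj⟩
    rw [Submodule.finrank_eq_zero.1 h] at hmem
    exact hmem
  have hT0 : 0 < T := by
    have h := hTn χ₀ hχ₀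
    rcases le_or_gt T 0 with hT | hT
    · exact absurd (by nlinarith : (n χ₀ : ℤ) ≤ 0) (by omega)
    · exact hT
  refine ⟨T.toNat, by omega, fun χ hχ => ?_⟩
  rw [hn]
  congr 1
  have h := hTn χ hχ
  zify
  rw [Int.toNat_of_nonneg hT0.le, h, mul_comm]

/-- In a block of rank one with bounded corners the defect group has at least as many elements as
the block has characters and no more than the bound. -/
theorem pow_defect_bounds (hM : Cfsg.IsPModular p M) (hB : Cfsg.IsPBlock M B)
    (hl : Cfsg.blockRank p B = 1) (bd : ℕ)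
    (hbound : ∀ eB : IntAlg hM G, inc hM eB = blockIdem B →
      CornerBound (Res hM) (red hM eB) classCoeff (Nat.card B) bd) :
    Nat.card B ≤ p ^ Cfsg.blockDefect p B ∧ p ^ Cfsg.blockDefect p B ≤ bd := by
  classical
  haveI := fact_prime_of_pm hM
  haveI := Fintype.ofFinite G
  haveI := Fintype.ofFinite (Cfsg.IrrCharacter G)
  haveI : IsAlgClosed (Res hM) := isAlgClosed_residue (splitsAll_loc hM)
  haveI : Module.Finite (Res hM) (MonoidAlgebra (Res hM) G) :=
    Module.Finite.of_basis (MonoidAlgebra.basis G (Res hM))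
  haveI : Module.Finite (Loc hM) (IntAlg hM G) :=
    Module.Finite.of_basis (MonoidAlgebra.basis G (Loc hM))
  obtain ⟨φ, d, ⟨m, hφm⟩, hdφ, hsq⟩ := RankOne.exists_decomposition hM hB hl
  set s := Finset.univ.filter (fun χ : Cfsg.IrrCharacter G => χ ∈ B)
  have h1reg : Cfsg.IsPRegular p (1 : G) := by simp [Cfsg.IsPRegular, hM.1.ne_one]
  have hφ1 : φ 1 ≠ 0 := by
    obtain ⟨χ, hχ⟩ := block_nonempty hM hB
    intro h
    exact irr_one_ne_zero χ.2 (by rw [hdφ χ hχ 1 h1reg, h, mul_zero])
  have hdpos : ∀ χ ∈ B, d χ ≠ 0 := fun χ hχ h => irr_one_ne_zero χ.2 (by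
    rw [hdφ χ hχ 1 h1reg, h, Nat.cast_zero, zero_mul])
  have hm : ∑ χ ∈ s, (m χ : ℂ) * (d χ : ℂ) = 1 := by
    apply mul_right_cancel₀ hφ1
    rw [one_mul]
    conv_rhs => rw [hφm 1 h1reg, ZStar.Principal.finsum_mem_eq_sum_filter]
    rw [Finset.sum_mul]
    refine Finset.sum_congr rfl fun χ hχ => ?_
    rw [hdφ χ (Finset.mem_filter.1 hχ).2 1 h1reg, mul_assoc]
  obtain ⟨eB, heB⟩ := intEl_iff_exists hM (intEl_blockIdem hM hB)
  have hinj : Function.Injective (inc (G := G) hM) := push_injective Subtype.val_injective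
  have hee : eB * eB = eB := hinj (by rw [map_mul, heB, blockIdem_mul_self])
  have hec : ∀ x, eB * x = x * eB := fun x => hinj (by
    rw [map_mul, map_mul, heB, (central_commute (central_blockIdem B) _).eq])
  set e := red hM eB with he
  have he2 : e * e = e := by rw [he, ← map_mul, hee]
  have hec' : ∀ x, e * x = x * e := fun x => by
    obtain ⟨x, rfl⟩ := red_surjective hM x
    rw [he, ← map_mul, hec, map_mul]
  have he0 : e ≠ 0 := by
    intro h
    obtain ⟨χ, hχ⟩ := block_nonempty hM hB
    have hω := omega_blockIdem_mem hχ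
    rw [← heB, idem_eq_zero hee (mem_mR_of_red hM h), map_zero, omega_zero] at hω
    exact zero_ne_one hω
  have hscale : ∀ j : IntAlg hM G, j * j = j → eB * j = j → red hM j ≠ 0 →
      ∃ t : ℕ, 0 < t ∧ ∀ χ ∈ B, evalChar (χ : G → ℂ) (inc hM j) = (t * d χ : ℕ) := by
    intro j hjj hej hj0
    refine exists_scale hM hdφ hm (inc_intEl hM j) (by rw [← map_mul, hjj])
      (by rw [← heB, ← map_mul, hej]) fun h => hj0 ?_
    rw [hinj (h.trans (map_zero _).symm), map_zero]
  set lam : MonoidAlgebra (Res hM) G →ₗ[Res hM] Res hM :=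
    (LinearMap.proj (ConjClasses.mk (1 : G))).comp classCoeff
  have hlamv : ∀ x, lam x = x.coeff 1 := fun x => classCoeff_one x
  have hnd : ∀ x, (∀ y, lam (x * y) = 0) → x = 0 := fun x hx => by
    ext g
    have := hx (single g⁻¹ 1)
    rw [hlamv, MonoidAlgebra.coeff_mul_single_apply, inv_inv, one_mul, mul_one] at this
    rw [this, MonoidAlgebra.coeff_zero, Finsupp.zero_apply]
  have hprop : ∀ E E' : MonoidAlgebra (Res hM) G, E * E = E → e * E = E → E ≠ 0 →
      E' * E' = E' → e * E' = E' → E' ≠ 0 →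
      ∃ a b : Res hM, (a ≠ 0 ∨ b ≠ 0) ∧ a • classCoeff E = b • classCoeff E' := by
    intro E E' hE heE hE0 hE' heE' hE0'
    obtain ⟨j, hjj, hej, hjr⟩ := exists_lift_idem hM hee hec hE (he ▸ heE)
    obtain ⟨j', hjj', hej', hjr'⟩ := exists_lift_idem hM hee hec hE' (he ▸ heE')
    obtain ⟨t, ht, htj⟩ := hscale j hjj hej (hjr ▸ hE0)
    obtain ⟨t', ht', htj'⟩ := hscale j' hjj' hej' (hjr' ▸ hE0')
    obtain ⟨g, a, b, -, hab, rfl, rfl⟩ := Nat.exists_coprime' (m := t) (n := t')
      (Nat.pos_of_ne_zero (fun h => by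
        rw [Nat.gcd_eq_zero_iff] at h; omega))
    refine ⟨(b : Res hM), (a : Res hM), ?_, ?_⟩
    · by_contra hcon
      push Not at hcon
      obtain ⟨hb, ha⟩ := hcon
      rw [← Int.cast_natCast, residue_intCast_eq_zero, Int.natCast_dvd_natCast] at ha hb
      exact hM.1.ne_one (Nat.eq_one_of_dvd_coprimes hab ha hb)
    funext C
    obtain ⟨x, rfl⟩ := ConjClasses.mk_surjective C
    have hn : (Nat.card (Subgroup.centralizer ({x} : Set G)) : ℂ) ≠ 0 :=
      Nat.cast_ne_zero.2 Nat.card_pos.ne'
    have hC : (b : ℂ) * classCoeff (inc hM j) (ConjClasses.mk x) =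
        (a : ℂ) * classCoeff (inc hM j') (ConjClasses.mk x) := by
      refine mul_left_cancel₀ hn ?_
      rw [mul_left_comm, mul_left_comm _ (a : ℂ), ← sum_conj_evalChar, ← sum_conj_evalChar,
        Finset.mul_sum, Finset.mul_sum]
      refine Finset.sum_congr rfl fun χ _ => ?_
      by_cases hχ : χ ∈ B
      · rw [htj χ hχ, htj' χ hχ]
        push_cast
        ring
      · rw [evalChar_eq_zero_of_notMem (by rw [← heB, ← map_mul, hej]) hχ,
          evalChar_eq_zero_of_notMem (by rw [← heB, ← map_mul, hej']) hχ]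
        simp
    have hO : (b : Loc hM) * classCoeff j (ConjClasses.mk x) =
        (a : Loc hM) * classCoeff j' (ConjClasses.mk x) := by
      apply Subtype.val_injective
      push_cast
      show (b : ℂ) * (Loc hM).subtype (classCoeff j (ConjClasses.mk x)) =
        (a : ℂ) * (Loc hM).subtype (classCoeff j' (ConjClasses.mk x))
      rw [classCoeff_map, classCoeff_map]
      exact hC
    have h := congrArg (IsLocalRing.residue (Loc hM)) hO
    rw [map_mul, map_mul, map_natCast, map_natCast, classCoeff_map, classCoeff_map] at h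
    rw [Pi.smul_apply, Pi.smul_apply, smul_eq_mul, smul_eq_mul, ← hjr, ← hjr']
    exact h
  have hcard : Nat.card B = s.card := by
    rw [Nat.card_eq_fintype_card, Fintype.card_subtype]
  obtain ⟨E, hE, heE, hE0, hdim, r, a, b, -⟩ := exists_small_corner e he2 hec' he0 classCoeff
    classCoeff_eq_zero_iff (Nat.card B) bd (he ▸ hbound eB heB) (finrank_traces_le hM heB) lam (fun x hx => by
      show classCoeff x (ConjClasses.mk (1 : G)) = 0
      rw [hx, Pi.zero_apply]) hnd hprop
  obtain ⟨j, hjj, hej, hjr⟩ := exists_lift_idem hM hee hec hE (he ▸ heE)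
  obtain ⟨t, ht, htj⟩ := hscale j hjj hej (hjr ▸ hE0)
  have hle : ∑ χ ∈ s, (t * d χ) ^ 2 ≤ bd := by
    have h := finrank_corner_eq (j := inc hM j) (by rw [← map_mul, hjj])
    rw [← Finset.sum_subset (Finset.subset_univ s) (fun χ _ hχ => by
      rw [evalChar_eq_zero_of_notMem (by rw [← heB, ← map_mul, hej]) (by simpa [s] using hχ),
        zero_pow two_ne_zero]), Finset.sum_congr rfl fun χ hχ => by
      rw [htj χ (Finset.mem_filter.1 hχ).2]] at h
    norm_cast at h
    rw [← h]
    exact (finrank_corner_le hM hjj).trans (hjr ▸ hdim)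
  rw [ZStar.Principal.finsum_mem_eq_sum_filter] at hsq
  rw [← hsq]
  refine ⟨?_, (Finset.sum_le_sum fun χ _ => ?_).trans hle⟩
  · rw [hcard, Finset.card_eq_sum_ones]
    refine Finset.sum_le_sum fun χ hχ => ?_
    exact Nat.one_le_pow _ _ (Nat.pos_of_ne_zero (hdpos χ (Finset.mem_filter.1 hχ).2))
  · exact Nat.pow_le_pow_left (Nat.le_mul_of_pos_left _ ht) 2

/-- In a block of rank one with at most four characters, or with corners whose radical has one
generator, the defect group has as many elements as the block has characters. -/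
theorem pow_defect_eq_card' (hM : Cfsg.IsPModular p M) (hB : Cfsg.IsPBlock M B)
    (hl : Cfsg.blockRank p B = 1)
    (hcase : Nat.card B ≤ 4 ∨
      ∀ eB : IntAlg hM G, inc hM eB = blockIdem B → OneGenRadical (Res hM) (red hM eB)) :
    p ^ Cfsg.blockDefect p B = Nat.card B := by
  haveI : Module.Finite (Res hM) (MonoidAlgebra (Res hM) G) :=
    Module.Finite.of_basis (MonoidAlgebra.basis G (Res hM))
  obtain ⟨h1, h2⟩ := pow_defect_bounds hM hB hl (Nat.card B) fun eB heB =>
    cornerBound_commutative _ _ _ (hcase.imp_right fun h => h eB heB)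
  exact le_antisymm h2 h1

/-- In a block of rank one with at most four characters the defect group has as many elements as
the block has characters. -/
theorem pow_defect_eq_card (hM : Cfsg.IsPModular p M) (hB : Cfsg.IsPBlock M B)
    (hl : Cfsg.blockRank p B = 1) (hk : Nat.card B ≤ 4) :
    p ^ Cfsg.blockDefect p B = Nat.card B :=
  pow_defect_eq_card' hM hB hl (Or.inl hk)

end Cfsg.Agent.BlockCharsA.RankOneSmall
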